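import Cfsg.Agent.H0.TC
set_option maxRecDepth 100000
namespace H0.TCS441
open H0
noncomputable def r0 : TC.WTr := (.node (.node (.node (.node (.node (.node (.leaf [0] 0 0 false) (.leaf [6, 6, 4, 5, 3, 6] 14 6 false)) (.leaf [5, 1, 5, 4, 5, 1, 5] 35 1 true)) (.node (.leaf [6, 3, 2, 6, 4, 7, 2] 34 4 true) (.leaf [0, 6, 0] 25 0 true))) (.node (.node (.leaf [8, 7, 4, 2, 7, 1, 0] 31 4 false) (.leaf [2, 3, 5, 2, 3] 27 1 true)) (.node (.leaf [6, 2, 6, 3, 6, 2, 6] 35 2 false) (.leaf [8, 2, 0, 2, 7, 1, 3] 31 1 true)))) (.node (.node (.node (.leaf [6, 8, 5, 0, 8] 26 2 false) (.leaf [3] 3 1 false)) (.node (.leaf [0, 2, 2, 4, 0, 1, 0] 21 3 false) (.leaf [5] 5 1 false))) (.node (.node (.leaf [8, 1, 8, 1, 8] 30 0 false) (.leaf [6] 5 0 false)) (.node (.leaf [5, 1, 4, 5, 1, 1, 7] 34 6 false) (.leaf [8] 8 0 false))))) (.node (.node (.node (.node (.node (.leaf [2, 0, 2, 2, 4, 0, 1] 21 2 false) (.leaf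 [2, 8, 2, 8, 2] 30 0 true)) (.leaf [8, 3, 7, 8, 5] 18 3 true)) (.node (.leaf [0, 2, 7, 1, 3, 7, 8] 31 3 true) (.leaf [2, 4, 1, 0, 3, 8] 29 6 false))) (.node (.node (.leaf [3, 1, 1, 3, 1] 28 1 false) (.leaf [0, 8, 0, 6, 8] 26 5 false)) (.node (.leaf [1, 1, 0, 1, 0, 2, 0] 21 0 true) (.leaf [3, 5, 1, 4, 5, 1, 1] 34 5 false)))) (.node (.node (.node (.leaf [0] 0 0 false) (.leaf [0, 5, 0] 25 1 false)) (.node (.leaf [8, 4, 6, 2, 6, 0, 5] 32 7 true) (.leaf [4, 2, 0, 7, 0, 1, 3] 36 6 false))) (.node (.node (.leaf [2] 1 0 false) (.leaf [3, 2, 6, 4, 7, 2, 2] 34 5 true)) (.node (.leaf [3] 3 1 false) (.leaf [6, 3, 8, 4, 7] 19 1 true))))))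
noncomputable def r1 : TC.WTr := (.node (.node (.node (.node (.node (.node (.leaf [6, 0, 6] 25 1 true) (.leaf [4, 5, 8, 7, 3] 19 1 false)) (.leaf [7, 8, 6, 3, 8] 19 5 true)) (.node (.leaf [8, 2, 8, 2, 8] 30 1 true) (.leaf [6, 3, 7, 6, 4] 13 2 false))) (.node (.node (.leaf [1, 1, 1, 1, 1] 20 0 false) (.leaf [8, 4, 0, 2, 3, 1] 29 0 true)) (.node (.leaf [5, 7, 4, 5, 5] 13 4 true) (.leaf [8, 6, 3, 8, 4] 19 0 true)))) (.node (.node (.node (.leaf [1, 3, 7, 4, 2, 0, 7] 36 3 false) (.leaf [3] 3 1 false)) (.node (.leaf [2, 6, 3, 2, 6, 4, 7] 34 3 true) (.leaf [6, 4, 6, 6, 3] 13 5 false))) (.node (.node (.leaf [6, 4, 1, 6, 4] 27 0 false) (.leaf [5] 5 1 false)) (.node (.leaf [7, 6, 4, 6, 6] 13 4 false) (.leaf [3, 6, 8, 7, 4] 18 1 false))))) (.node (.node (.node (.node (.node (.leaf [1, 1, 1, 5, 2, 0, 1] 22 4 true) (.leaf [8] 8 0 false)) (.leaf [5, 5, 3, 5, 7] 13 1 true)) (.node (.leaf [4, 2, 2,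 4, 2] 28 2 true) (.leaf [8, 5, 0, 8, 0] 26 3 false))) (.node (.node (.leaf [0, 3, 8, 6, 2, 4] 29 2 false) (.leaf [4, 8, 3, 7, 8] 18 2 true)) (.node (.leaf [8, 1, 6, 0, 5, 1, 5] 32 6 false) (.leaf [7] 7 0 false)))) (.node (.node (.node (.leaf [0] 0 0 false) (.leaf [8, 7, 3, 8, 4] 19 3 false)) (.node (.leaf [1, 5, 8, 4, 0, 2] 29 5 true) (.leaf [0, 1, 3, 7, 4, 2, 0] 36 2 false))) (.node (.node (.leaf [1] 1 1 false) (.leaf [3, 7, 6, 4, 6] 13 3 false)) (.node (.leaf [1, 6, 4, 1, 6] 27 2 false) (.leaf [5, 0, 8, 0, 6] 26 4 false))))))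
noncomputable def r2 : TC.WTr := (.node (.node (.node (.node (.node (.node (.leaf [3, 8, 6, 2, 4, 1] 29 3 false) (.leaf [1, 8, 1, 8, 1] 30 1 false)) (.leaf [1, 0, 3, 8, 6, 2] 29 1 false)) (.node (.leaf [3, 5, 2, 3, 5] 27 2 true) (.leaf [6, 6, 6, 6] 12 0 true))) (.node (.node (.leaf [0, 1, 8, 7, 4, 2, 7] 31 2 false) (.leaf [1, 3, 8, 4, 2, 6, 8] 33 3 false)) (.node (.leaf [7, 8, 5, 4, 8] 18 5 true) (.leaf [4, 8, 3, 6, 8] 18 5 false)))) (.node (.node (.node (.leaf [7, 0, 1, 3, 7, 4, 2] 36 1 false) (.leaf [3] 3 1 false)) (.node (.leaf [6, 8, 5, 1, 3, 8, 4] 33 0 false) (.leaf [7] 7 0 false))) (.node (.node (.leaf [6, 2, 2, 2, 0, 2, 0] 22 6 false) (.leaf [6] 5 0 false)) (.node (.leaf [8, 4, 7, 8, 6] 19 3 true) (.leaf [0, 6, 8, 5, 0] 26 1 false))))) (.node (.node (.node (.node (.node (.leaf [2, 3, 1, 5, 8, 4] 29 3 true) (.leaf [7, 4, 8, 3, 6] 18 4 false)) (.leaf [5, 8, 7, 3, 8] 19 2 false))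 (.node (.leaf [2, 2, 2, 2, 2] 20 0 true) (.leaf [3, 5, 5, 8, 5, 4] 14 3 true))) (.node (.node (.leaf [0, 2, 0, 2, 2, 4, 0] 21 1 false) (.leaf [5, 3, 5, 7, 4] 13 2 true)) (.node (.leaf [5, 2, 3, 5, 2] 27 0 true) (.leaf [7] 7 0 false)))) (.node (.node (.node (.leaf [0] 0 0 false) (.leaf [3, 6, 8, 6, 6, 4] 14 3 false)) (.node (.leaf [4] 3 0 false) (.leaf [8, 7, 8] 9 0 false))) (.node (.node (.leaf [2] 1 0 false) (.leaf [0, 5, 2, 8, 4, 6, 2] 32 4 true)) (.node (.leaf [4, 4] 11 0 true) (.leaf [5, 1, 3, 8, 4, 2, 6] 33 2 false))))))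
noncomputable def r3 : TC.WTr := (.node (.node (.node (.node (.node (.node (.leaf [2, 0, 3, 1, 1, 0, 1] 21 5 true) (.leaf [7, 3, 8, 4, 5] 19 4 false)) (.leaf [6, 6, 3, 7, 6] 13 1 false)) (.node (.leaf [2, 4, 2, 2, 4] 28 1 true) (.leaf [8, 7, 4, 8, 3] 18 3 false))) (.node (.node (.leaf [5, 8, 4, 0, 2, 3] 29 6 true) (.leaf [5, 5, 5, 5] 12 0 false)) (.node (.leaf [6, 8, 7, 4, 8] 18 2 false) (.leaf [4, 5, 5, 3, 5] 13 0 true)))) (.node (.node (.node (.leaf [0] 0 0 false) (.leaf [6] 5 0 false)) (.node (.leaf [3, 1, 5, 8, 4, 0] 29 4 true) (.leaf [3, 8, 4, 5, 8] 19 5 false))) (.node (.node (.leaf [2] 1 0 false) (.leaf [4, 1, 6, 4, 1] 27 1 false)) (.node (.leaf [4] 3 0 false) (.leaf [4, 2, 6, 8, 5, 1, 3] 33 6 false))))) (.node (.node (.node (.node (.leaf [5, 0, 5] 25 0 false) (.leaf [3] 3 1 false)) (.node (.leaf [4, 0, 1, 0, 2, 0, 2] 21 6 false) (.leaf [3, 8, 4, 7, 8] 19 2 true))) (.node (.node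 (.leaf [3, 7, 8, 2, 0, 2, 7] 31 7 true) (.leaf [6] 5 0 false)) (.node (.leaf [1, 1, 3, 1, 1] 28 2 false) (.leaf [7] 7 0 false)))) (.node (.node (.node (.leaf [2] 1 0 false) (.leaf [7, 4, 5, 5, 3] 13 5 true)) (.node (.leaf [8, 6, 2, 4, 1, 0] 29 4 false) (.leaf [1, 0, 1, 8, 7, 4, 2] 31 1 false))) (.node (.node (.leaf [4, 1, 0, 3, 8, 6] 29 0 false) (.leaf [8, 6, 6, 4, 5, 3] 14 5 false)) (.node (.leaf [2, 2, 4, 2, 2] 28 0 true) (.leaf [7, 8, 7] 9 1 false))))))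
noncomputable def tS : Tr := (.leaf (nat_lit 0xfff67a6bc6796766ff6bf83b5b10ecfff77b7f262c0e093866a6696fb5f9fff43d7bd7668b86690df4a09f382afff9356ff5fa0dd4258a15f59a3672fff7be7230db5326ab7f46be87f61dfff6bf6753a763c8f763982a7aa0dafff5f98b95b56bf67a7775ae0d963efff7f10d88fd86e7aa97e8716e96b4fff0d66225767357b98ba41951c41ffff5a20d66bf5b76b34dc67052c623fff97c63a7775f959d0d64d863c560fff5b47b44e87aa83b6ab0955646f8fff3dd8276a165651c6f6a3d094819fff5a37be57b4da42f0927265266bcfff8387a608f7182545ac5ff838551fff6d25a471722945b08f61e6b652ffff66f6af68e6cf3d24724ed08e570fff08d66d83856b2a451e4a75f9528fff62b6ae08c3504e83da49252f252fff56c5ac5e367e5f14d457608c13ffff66d5cd5ae5a66f46fb08c55e514fff6e908b7747556be7f87fa87a87dfff72a6a827008b61f6bd7386be68efff48b6694d453449a52d08b3d856efff4618734253fa4e74a73dc4ee08afff5587f15eb7bd1110895727724d5fff5e562559d4674a147c0891113dbfff5515f01d208849e2ee5b451f10cfff5f27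7b41f62c1ce08897c5cb676fff5f667739c4213a23e238e08741efff4a751d3e26f38fc465086496389fff08550913e39f20c29311b4fd535fff4890853e046313d6694e4353477fff49e45e44908556e4e45ab6703e2fff4334e113c5e55565f538a08567bfff4dc2dc3563e2536573577427085fff0841d93ca13b40f4b0390160425fff15908453238a42d4683d744d13afff19a21b0843c9350455139477873fff5a613877140e11708442853564bfff11711745177008415821641a50ffff13713663339c13559d4e11d7084fff04318872a4144993900cf0f4526fff2080434554a852c2b10f30d056bfff3933931880432e00cc39f48f30dfff7304d10432240f242f10746d2adfff5a44920cb4170c91661650435b1fff3500d03ad30d3d53991143db043fff04218c6af0f10f03db4531154d7fff10c0424586ef1882230ef3e26e9fff0ee5ab2d00420c318541a2c6353fff14e1cf0420ed1132600ec0eb164fff4e80ea0e91110ca0426230e8618fff0ca1ca35a39b04210b2483dd0e7fff4df56041949e0e61110420e53e1fff2541d50e41d30e314e34420a042fff1c72071471070c60410e2152346fff24628624620604110728d0e1307fff0e00df0de34414d0c30dd0410dcfff0db0da3050d90d80d70413880d6fff09509409309210510d091000090fff08f08e08d08c08b08a000089088fff0811810c1081087086085084000fff000000000000000000043042041))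
noncomputable def tJ : Tr := (.leaf (nat_lit 0x253040269a2503407c1da1008601250a0dcab2940d01e22604023000ac2105500e0000060004d55c2061860020f601c079800a0004a402046ac0722507012000296c42860004000c0a000809584005606008186180a005d23008e0506cb380c002b084240138c024ad41c2c0508187500603dc08054894a4c4020c0582c8414003840230800402c01000001c00b14c701e6700000000a000013100001080a4000004ca000020300025028300800006400144049c20002431940601e07000021800040030710010000301408980400002001e8322011200c631005380910000048805020a7880000082001800280f10000129800000114024400000200070124000021000c0002452140000c0000061900002006300240000000000c000000c900889230108001c07880c000040280c5244030004600011000033002000444180110000528000000114024450004300670124000000000a001872100a001800048000000018000000320002400c6524800000400000000240000000000010832180420083000004008401400100420000000841000800004000400008000000000400200000000100000008401000008000f7bdef78000))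
noncomputable def tQ : Tr := (.leaf (nat_lit 0x0))
noncomputable def tR : TC.WTr := (.node (.node r0 r1) (.node r2 r3))
def hl : List ℕ := [3, 4, 4, 3, 5, 6, 6, 5, 7, 8]
def B : List (List ℕ) := [[0, 0], [1, 2], [2, 1], [3, 4], [4, 3], [5, 6], [6, 5], [7, 7], [8, 8], [7, 8, 7, 8], [7, 8, 7, 8], [3, 3, 3], [5, 5, 5, 5, 5], [6, 4, 6, 6, 3, 7], [6, 6, 4, 5, 3, 6, 8], [3, 5, 3, 5, 3, 5, 3, 5, 3, 5, 3, 5], [3, 5, 4, 6, 3, 5, 4, 6, 3, 5, 4, 6, 3, 5, 4, 6, 3, 5, 4, 6], [3, 6, 3, 6, 3, 6, 3, 6, 3, 6, 3, 6, 3, 6, 3, 6, 3, 6, 3, 6, 3, 6, 3, 6, 3, 6, 3, 6, 3, 6], [4, 8, 3, 6, 8, 7], [3, 8, 4, 5, 8, 7], [1, 1, 1, 1, 1, 1], [0, 1, 0, 2, 0, 2, 2, 4], [2, 2, 2, 0, 2, 0, 1, 6], [0, 1, 0, 1, 0, 1, 0, 1, 0, 1, 0, 1, 0, 1, 0, 1, 0, 1, 0, 1, 0, 1, 0, 1, 0, 1, 0, 1, 0, 1], [0, 2, 0, 2, 0, 2, 0, 2, 0, 2, 0, 2, 0, 2, 0, 2, 0, 2, 0, 2, 0, 2, 0, 2, 0, 2, 0, 2, 0, 2], [0, 5, 0, 5], [0, 8, 0, 6, 8, 5], [1, 6,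 4, 1, 6, 4], [1, 1, 3, 1, 1, 3], [2, 4, 1, 0, 3, 8, 6], [1, 8, 1, 8, 1, 8], [2, 7, 1, 0, 1, 8, 7, 4], [1, 6, 0, 5, 1, 5, 3, 8], [2, 6, 8, 5, 1, 3, 8, 4], [1, 4, 5, 1, 1, 7, 3, 5], [2, 6, 3, 6, 2, 6, 3, 6], [2, 0, 7, 0, 1, 3, 7, 4]]
def subs : List (List ℕ) := [[3], [4], [5], [6], [7], [8]]
def ex : List (List ℕ) := []
def inv (x : ℕ) : ℕ := [0, 2, 1, 4, 3, 6, 5, 7, 8].getD x 0
noncomputable def rS : ℕ → ℕ := rowOf tS (nat_lit 7) (nat_lit 127) (nat_lit 120) (nat_lit 1329227995784915872903807060280344575)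
noncomputable def rJ : ℕ → ℕ := rowOf tJ (nat_lit 7) (nat_lit 127) (nat_lit 55) (nat_lit 36028797018963967)
noncomputable def C : TC.Cfg where
  S := look rS (nat_lit 12) (nat_lit 4095)
  J := look rJ (nat_lit 5) (nat_lit 31)
  Q := lookQ tQ (nat_lit 7) (nat_lit 1) (nat_lit 1)
  R := tR.get
  hl := fun x => hl.contains x
  n := (nat_lit 64)
  M := (nat_lit 64)
  top := (nat_lit 2624)
  nl := (nat_lit 9)
  need := (nat_lit 9)
  nr := (nat_lit 15)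
theorem k0 : TC.chkRange C 0 1 = true := by decide +kernel
theorem rows0 : ∀ c < (0 + 1) * 64, c < C.M → TC.chkRow C c = true :=
  TC.rows_step (TC.rows_zero C) k0
theorem main {G : Type*} [Group G] (g : ℕ → G) (hB : ∀ r ∈ B, ev g r = 1) (H : Subgroup G)
    (hH : ∀ w ∈ subs, ev g w ∈ H) :
    H.relIndex (Subgroup.closure (g '' {x | x < 9})) ≠ 0 ∧
      H.relIndex (Subgroup.closure (g '' {x | x < 9})) ≤ 64 :=
  TC.index_le C B subs ex inv hl tR.hint rfl (by decide +kernel) (by decide +kernel)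
    (TC.rows_done rows0 (by decide +kernel)) g hB H hH
end H0.TCS441
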